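import Mathlib
import Groth.Agent.Lib.Helper1.SchImgRed
import Groth.Agent.Lib.Helper1.RedOpenImm

/-!
# Criteria for separatedness (helper6)
-/

set_option autoImplicit false

universe u

open CategoryTheory CategoryTheory.Limits AlgebraicGeometry TopologicalSpace

namespace Groth.Agent.Lib.Helper6.Sep

open Groth.Agent.Helper1.SchImgRed Groth.Agent.Helper1.RedOpenImm

/-- A morphism is separated as soon as its diagonal has closed range. -/
theorem isSeparated_of_isClosed_range {X S : Scheme.{u}} (f : X ⟶ S)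
    (h : IsClosed (Set.range (pullback.diagonal f))) : IsSeparated f :=
  ⟨IsClosedImmersion.of_isPreimmersion _ h⟩

theorem isSeparated_of_reduced_cancel {X S : Scheme.{u}} (f : X ⟶ S)
    (H : ∀ (T : Scheme.{u}) [IsReduced T] (g₁ g₂ : T ⟶ X) (U : T.Opens), g₁ ≫ f = g₂ ≫ f →
      Dense (U : Set T) → U.ι ≫ g₁ = U.ι ≫ g₂ → g₁ = g₂) : IsSeparated f := by
  apply isSeparated_of_isClosed_range
  let r : X.nilradical.subscheme ⟶ X := X.nilradical.subschemeι
  let Δ := pullback.diagonal f
  let h : X.nilradical.subscheme ⟶ pullback f f := r ≫ Δ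
  haveI : IsImmersion h := inferInstance
  haveI : IsReduced h.image := isReduced_image h
  haveI : IsOpenImmersion h.toImage := isOpenImmersion_toImage_of_isReduced h
  have hrange : Set.range h.imageι = closure (Set.range Δ) := by
    rw [Scheme.Hom.imageι, Scheme.IdealSheafData.range_subschemeι, support_ker_of_isReduced]
    congr 1
    show Set.range (r ≫ Δ) = Set.range Δ
    rw [Scheme.Hom.comp_base, TopCat.coe_comp, Set.range_comp,
      Set.range_eq_univ.mpr r.surjective, Set.image_univ]
  have key : h.imageι ≫ pullback.fst f f = h.imageι ≫ pullback.snd f f := by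
    refine H h.image _ _ h.toImage.opensRange ?_ ?_ ?_
    · rw [Category.assoc, Category.assoc, pullback.condition]
    · rw [Scheme.Hom.coe_opensRange]
      have hemb := h.imageι.isClosedEmbedding
      have hcomp : h.imageι '' Set.range h.toImage = Set.range (r ≫ Δ) := by
        rw [← Set.range_comp, ← TopCat.coe_comp, ← Scheme.Hom.comp_base, h.toImage_imageι]
      have : h.imageι '' closure (Set.range h.toImage) = h.imageι '' Set.univ := by
        rw [← hemb.closure_image_eq, hcomp, Set.image_univ, hrange]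
        congr 1
        rw [Scheme.Hom.comp_base, TopCat.coe_comp, Set.range_comp,
          Set.range_eq_univ.mpr r.surjective, Set.image_univ]
      exact dense_iff_closure_eq.mpr (hemb.injective.image_injective this)
    · have e : h.toImage.opensRange.ι =
          (IsOpenImmersion.isoOfRangeEq h.toImage.opensRange.ι h.toImage
            (by simp)).hom ≫ h.toImage := by
        rw [IsOpenImmersion.isoOfRangeEq_hom_fac]
      rw [e, Category.assoc, Category.assoc]
      congr 1
      rw [h.toImage_imageι_assoc, h.toImage_imageι_assoc]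
      show (r ≫ Δ) ≫ _ = (r ≫ Δ) ≫ _
      simp [Δ]
  have hsub : Set.range h.imageι ⊆ Set.range Δ := by
    rintro _ ⟨w, rfl⟩
    have e : h.imageι = (h.imageι ≫ pullback.fst f f) ≫ Δ := by
      apply pullback.hom_ext
      · simp [Δ]
      · simp [Δ, key]
    refine ⟨(h.imageι ≫ pullback.fst f f) w, ?_⟩
    conv_rhs => rw [e]
    rfl
  rw [hrange] at hsub
  exact closure_eq_iff_isClosed.mp (subset_antisymm hsub subset_closure)

theorem isSeparated_of_pairs {X S : Scheme.{u}} (f : X ⟶ S)
    (H : ∀ x₁ x₂ : X, f.base x₁ = f.base x₂ →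
      ∃ V : X.Opens, x₁ ∈ V ∧ x₂ ∈ V ∧ IsSeparated (V.ι ≫ f)) : IsSeparated f := by
  apply isSeparated_of_isClosed_range
  rw [← isOpen_compl_iff, isOpen_iff_forall_mem_open]
  intro z hz
  have hcond : f.base ((pullback.fst f f) z) = f.base ((pullback.snd f f) z) := by
    rw [← Scheme.Hom.comp_apply, ← Scheme.Hom.comp_apply, pullback.condition]
  obtain ⟨V, h₁, h₂, hsep⟩ := H _ _ hcond
  obtain ⟨j, hj⟩ : ∃ j : (V : Scheme.{u}) ⟶ X, j = V.ι := ⟨_, rfl⟩
  haveI : IsOpenImmersion j := hj ▸ inferInstance
  haveI : IsSeparated (j ≫ f) := hj ▸ hsep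
  have hrj : Set.range j = V := by rw [hj, Scheme.Opens.range_ι]
  let m := pullback.map (j ≫ f) (j ≫ f) f f j j (𝟙 S) (by simp) (by simp)
  let ΔV := pullback.diagonal (j ≫ f)
  have hcomm : ΔV ≫ m = j ≫ pullback.diagonal f := by
    apply pullback.hom_ext
    · show (pullback.diagonal (j ≫ f) ≫ pullback.map (j ≫ f) (j ≫ f) f f j j (𝟙 S) _ _) ≫ _ = _
      rw [Category.assoc, pullback.lift_fst, pullback.diagonal_fst_assoc, Category.assoc,
        pullback.diagonal_fst, Category.comp_id]
    · show (pullback.diagonal (j ≫ f) ≫ pullback.map (j ≫ f) (j ≫ f) f f j j (𝟙 S) _ _) ≫ _ = _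
      rw [Category.assoc, pullback.lift_snd, pullback.diagonal_snd_assoc, Category.assoc,
        pullback.diagonal_snd, Category.comp_id]
  have hrm : Set.range m = pullback.fst f f ⁻¹' Set.range j ∩ pullback.snd f f ⁻¹' Set.range j :=
    Scheme.Pullback.range_map _ _ _ _ _ _ _ _ _
  have hinj : Function.Injective m := m.isOpenEmbedding.injective
  have hcl : IsClosed (Set.range ΔV) := ΔV.isClosedEmbedding.isClosed_range
  have hmem : ∀ v : V, m (ΔV v) = pullback.diagonal f (j v) := by
    intro v
    rw [← Scheme.Hom.comp_apply, hcomm, Scheme.Hom.comp_apply]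
  have hzm : z ∈ Set.range m := by
    rw [hrm]
    refine ⟨?_, ?_⟩
    · show pullback.fst f f z ∈ Set.range j
      rw [hrj]; exact h₁
    · show pullback.snd f f z ∈ Set.range j
      rw [hrj]; exact h₂
  obtain ⟨z', rfl⟩ := hzm
  refine ⟨m '' (Set.range ΔV)ᶜ, ?_, m.isOpenEmbedding.isOpenMap _ hcl.isOpen_compl, ?_⟩
  · rintro _ ⟨n', hn', rfl⟩ ⟨x, hx⟩
    apply hn'
    have hxV : x ∈ Set.range j := by
      have : x = j (pullback.fst (j ≫ f) (j ≫ f) n') := by
        have e1 : pullback.fst f f (pullback.diagonal f x) = x := by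
          rw [← Scheme.Hom.comp_apply]; simp
        have e2 : pullback.fst f f (m n') = j (pullback.fst (j ≫ f) (j ≫ f) n') := by
          show (pullback.fst f f) (pullback.map (j ≫ f) (j ≫ f) f f j j (𝟙 S) _ _ n') = _
          rw [← Scheme.Hom.comp_apply, ← Scheme.Hom.comp_apply, pullback.lift_fst]
        rw [← e1, hx, e2]
      exact ⟨_, this.symm⟩
    obtain ⟨v, rfl⟩ := hxV
    refine ⟨v, hinj ?_⟩
    rw [hmem, hx]
  · refine ⟨z', ?_, rfl⟩
    rintro ⟨v, rfl⟩
    exact hz ⟨j v, (hmem v).symm⟩

end Groth.Agent.Lib.Helper6.Sep
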